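import Mathlib
import Cfsg.Agent.H616.TI.Defs

/-!
# S4821, block AL: abelian irreducible normal subgroups of automorphism groups (helper901)
-/

set_option autoImplicit false

namespace Cfsg.Agent.H901.TIAL

open Subgroup

universe u

/-- The numbers: `m = d k`, `p ∤ m`, `d ≥ 2`, `b ≥ p ^ k`. -/
theorem num_bound {p d k b : ℕ} (hp : p.Prime) (hd : 2 ≤ d) (hk : 1 ≤ k) (hpm : ¬ p ∣ d * k)
    (hb : p ^ k ≤ b) : (d * k + 1) * b ≤ b ^ d := by
  obtain ⟨c, rfl⟩ : ∃ c, d = c + 1 := ⟨d - 1, by omega⟩
  have hc : 1 ≤ c := by omega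
  have key : (c + 1) * k + 1 ≤ p ^ (k * c) := by
    rcases hp.eq_two_or_odd with h2 | hodd
    · subst h2
      have hc2 : 2 ≤ c := by
        rcases Nat.lt_or_ge c 2 with h | h
        · exfalso
          have : c = 1 := by omega
          subst this
          exact hpm ⟨k, rfl⟩
        · exact h
      have h2j : 2 * k ≤ k * c := by nlinarith
      have h3 : ∀ j : ℕ, 2 ≤ j → 3 * j + 2 ≤ 2 * 2 ^ j := by
        intro j hj
        induction j, hj using Nat.le_induction with
        | base => norm_num
        | succ n hn ih => rw [pow_succ]; omega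
      have := h3 (k * c) (by omega)
      have h4 : 2 * ((c + 1) * k) ≤ 3 * (k * c) := by nlinarith
      omega
    · have hp3 : 3 ≤ p := by
        rcases hp.eq_one_or_self_of_dvd 2 |> fun _ => hp.two_le.lt_or_eq with h | h
        · omega
        · omega
      have hkj : k ≤ k * c := by nlinarith
      have h3 : ∀ j : ℕ, 2 * j + 1 ≤ 3 ^ j := by
        intro j
        induction j with
        | zero => norm_num
        | succ n ih => rw [pow_succ]; omega
      calc (c + 1) * k + 1 ≤ 2 * (k * c) + 1 := by nlinarith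
        _ ≤ 3 ^ (k * c) := h3 _
        _ ≤ p ^ (k * c) := Nat.pow_le_pow_left hp3 _
  calc ((c + 1) * k + 1) * b ≤ (p ^ (k * c)) * b := Nat.mul_le_mul_right _ key
    _ = (p ^ k) ^ c * b := by rw [pow_mul]
    _ ≤ b ^ c * b := Nat.mul_le_mul_right _ (Nat.pow_le_pow_left hb _)
    _ = b ^ (c + 1) := (pow_succ _ _).symm

/-- The field form: a finite group `G` acting faithfully on a finite field `F` by ring
automorphisms, of order prime to the characteristic. -/
theorem field_bound {p : ℕ} (hp : p.Prime) {F : Type u} [Field F] [Finite F] {G : Type u}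
    [Group G] [Finite G] [MulSemiringAction G F] [FaithfulSMul G F] (hpF : p ∣ Nat.card F)
    (hpG : ¬ p ∣ Nat.card G) (e : G) (he : e ≠ 1) :
    (Nat.card G + 1) * Nat.card {x : F // e • x = x} ≤ Nat.card F := by
  classical
  have := Fintype.ofFinite G
  have := Fintype.ofFinite F
  have card_fix : ∀ (H : Subgroup G), Nat.card F =
      Nat.card (FixedPoints.subfield H F) ^ Nat.card H := by
    intro H
    have : Fintype H := Fintype.ofFinite H
    have : FaithfulSMul H F := ⟨fun {a b} hab => Subtype.ext (FaithfulSMul.eq_of_smul_eq_smul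
      (α := F) hab)⟩
    have h1 := FixedPoints.finrank_eq_card H F
    have h2 := Module.natCard_eq_pow_finrank (K := FixedPoints.subfield H F) (V := F)
    rw [h2, h1, Nat.card_eq_fintype_card (α := H)]
  have h1 := card_fix ⊤
  have h2 := card_fix (zpowers e)
  rw [Nat.card_congr (Subgroup.topEquiv (G := G)).toEquiv] at h1
  rw [Nat.card_zpowers] at h2
  set a := Nat.card (FixedPoints.subfield (⊤ : Subgroup G) F) with ha
  set b := Nat.card (FixedPoints.subfield (zpowers e) F) with hb
  have hbe : Nat.card {x : F // e • x = x} = b := by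
    rw [hb]
    refine Nat.card_congr (Equiv.subtypeEquivRight ?_)
    intro x
    constructor
    · intro hx g
      obtain ⟨g, n, rfl⟩ := g
      have hst : e ∈ MulAction.stabilizer G x := hx
      exact (MulAction.stabilizer G x).zpow_mem hst n
    · intro hx
      exact hx ⟨e, mem_zpowers e⟩
  obtain ⟨k, hk⟩ := orderOf_dvd_natCard e
  have hab : b = a ^ k := by
    have h3 : (a ^ k) ^ orderOf e = b ^ orderOf e := by
      rw [← pow_mul, mul_comm k, ← hk, ← h1, ← h2]
    exact ((Nat.pow_left_inj (orderOf_pos e).ne').1 h3).symm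
  have hpa : p ∣ a := by
    rw [h1] at hpF
    exact hp.dvd_of_dvd_pow hpF
  have ha0 : 0 < a := by rw [ha]; exact Nat.card_pos
  have hd : 2 ≤ orderOf e := by
    have := orderOf_pos e
    have h1' : orderOf e ≠ 1 := fun h => he (orderOf_eq_one_iff.1 h)
    omega
  have hk1 : 1 ≤ k := by
    rcases Nat.eq_zero_or_pos k with h | h
    · subst h
      have := Nat.card_pos (α := G)
      omega
    · exact h
  rw [hbe, h2, hk]
  refine num_bound hp hd hk1 (hk ▸ hpG) ?_
  rw [hab]
  exact Nat.pow_le_pow_left (Nat.le_of_dvd ha0 hpa) _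

/-- Automorphisms as additive endomorphisms. -/
def toEnd (U : Type u) [CommGroup U] : MulAut U →* AddMonoid.End (Additive U) where
  toFun a := MonoidHom.toAdditive a.toMonoidHom
  map_one' := rfl
  map_mul' _ _ := rfl

theorem toEnd_apply {U : Type u} [CommGroup U] (a : MulAut U) (x : Additive U) :
    toEnd U a x = Additive.ofMul (a x.toMul) := rfl

/-- The core: a commutative ring of endomorphisms, transitive on nonzero vectors, normalised by a
group fixing `z`. -/
theorem core {p : ℕ} (hp : p.Prime) {V : Type u} [AddCommGroup V] [Finite V] {F : Type u}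
    [CommRing F] [Finite F] (ρ : F →+* AddMonoid.End V) (hρ : Function.Injective ρ) (z : V)
    (hz : z ≠ 0) (hirr : ∀ x : V, x ≠ 0 → ∀ y, ∃ r : F, ρ r x = y)
    {G : Type u} [Group G] [Finite G] [MulSemiringAction G F] (act : G → V → V)
    (hfaith : ∀ g, (∀ x, act g x = x) → g = 1)
    (hG : ∀ g r x, act g (ρ r x) = ρ (g • r) (act g x)) (hGz : ∀ g, act g z = z)
    (hpV : p ∣ Nat.card V) (hpG : ¬ p ∣ Nat.card G) (e : G) (he : e ≠ 1) :
    (Nat.card G + 1) * Nat.card {x : V // act e x = x} ≤ Nat.card V := by
  classical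
  have hmul : ∀ r s x, ρ (r * s) x = ρ r (ρ s x) := fun r s x => by rw [map_mul]; rfl
  have hne : ∀ r : F, r ≠ 0 → ∃ x, ρ r x ≠ 0 := by
    intro r hr
    by_contra hcon
    push Not at hcon
    exact hr (hρ (by rw [map_zero]; exact AddMonoidHom.ext hcon))
  have hdom : ∀ r s : F, r * s = 0 → r = 0 ∨ s = 0 := by
    intro r s hrs
    by_contra hcon
    push Not at hcon
    obtain ⟨x, hx⟩ := hne s hcon.2
    obtain ⟨y, hy⟩ := hne r hcon.1
    obtain ⟨t, ht⟩ := hirr _ hx y
    apply hy
    rw [← ht, ← hmul, ← hmul, mul_right_comm, hrs, zero_mul, map_zero]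
    rfl
  have hbij : Function.Bijective (fun r : F => ρ r z) := by
    constructor
    · intro r s hrs
      have h0 : ρ (r - s) z = 0 := by
        rw [map_sub]
        show ρ r z - ρ s z = 0
        exact sub_eq_zero.2 hrs
      by_contra hcon
      obtain ⟨y, hy⟩ := hne (r - s) (sub_ne_zero.2 hcon)
      obtain ⟨t, ht⟩ := hirr _ hz y
      apply hy
      rw [← ht, ← hmul, mul_comm, hmul, h0, map_zero]
    · intro y
      obtain ⟨t, ht⟩ := hirr _ hz y
      exact ⟨t, ht⟩
  have hnt : Nontrivial F := by
    obtain ⟨r, hr⟩ := hbij.2 z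
    obtain ⟨s, hs⟩ := hbij.2 0
    refine ⟨r, s, ?_⟩
    rintro rfl
    exact hz (hr.symm.trans hs)
  have hnzd : NoZeroDivisors F := ⟨fun {r s} h => hdom r s h⟩
  have hid : IsDomain F := NoZeroDivisors.to_isDomain F
  let _ : Field F := (Finite.isField_of_domain F).toField
  have hft : FaithfulSMul G F := by
    constructor
    intro g h hgh
    have h1 : h⁻¹ * g = 1 := by
      apply hfaith
      intro x
      obtain ⟨r, hr⟩ := hbij.2 x
      simp only at hr
      rw [← hr, hG, hGz, mul_smul, hgh r, inv_smul_smul]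
    exact (inv_mul_eq_one.1 h1).symm
  have hcard : Nat.card F = Nat.card V := Nat.card_eq_of_bijective _ hbij
  have hfix : Nat.card {x : F // e • x = x} = Nat.card {x : V // act e x = x} := by
    refine Nat.card_congr (Equiv.subtypeEquiv (Equiv.ofBijective _ hbij) ?_)
    intro r
    show e • r = r ↔ act e (ρ r z) = ρ r z
    rw [hG, hGz]
    exact ⟨fun h => by rw [h], fun h => hbij.1 h⟩
  rw [← hcard, ← hfix]
  exact field_bound hp (hcard ▸ hpV) hpG e he

/-- Goal AL of S4821. -/
theorem result : Cfsg.Agent.H616.TI.GoalAL.{u} := by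
  intro p hpf U _ _ hexp A E hpE hAE hnorm hcomm hirr z hz e heE hez he
  classical
  have hp := hpf.out
  let S : Set (AddMonoid.End (Additive U)) := toEnd U '' (A : Set (MulAut U))
  have hS : ∀ x ∈ S, ∀ y ∈ S, x * y = y * x := by
    rintro _ ⟨a, ha, rfl⟩ _ ⟨b, hb, rfl⟩
    rw [← map_mul, ← map_mul, hcomm a ha b hb]
  have hfin : Finite (AddMonoid.End (Additive U)) :=
    Finite.of_injective (fun f : AddMonoid.End (Additive U) => (f : Additive U → Additive U))
      DFunLike.coe_injective
  let _ : CommRing (Subring.closure S) := Subring.closureCommRingOfComm hS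
  have hFfin : Finite (Subring.closure S) := inferInstance
  -- conjugation
  have hconj : ∀ g ∈ E, ∀ r ∈ Subring.closure S, toEnd U g * r * toEnd U g⁻¹ ∈ Subring.closure S := by
    intro g hg r hr
    induction hr using Subring.closure_induction with
    | mem x hx =>
      obtain ⟨a, ha, rfl⟩ := hx
      rw [← map_mul, ← map_mul]
      exact Subring.subset_closure ⟨_, hnorm g hg a ha, rfl⟩
    | zero => simp only [mul_zero, zero_mul]; exact Subring.zero_mem _
    | one =>
      rw [mul_one, ← map_mul, mul_inv_cancel, map_one]; exact Subring.one_mem _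
    | add x y _ _ hx hy =>
      rw [mul_add, add_mul]; exact Subring.add_mem _ hx hy
    | neg x _ hx =>
      have h1 : toEnd U g * -x * toEnd U g⁻¹ = -(toEnd U g * x * toEnd U g⁻¹) :=
        AddMonoidHom.ext fun w => map_neg (toEnd U g) _
      rw [h1]; exact Subring.neg_mem _ hx
    | mul x y _ _ hx hy =>
      have h1 : toEnd U g * (x * y) * toEnd U g⁻¹ =
          (toEnd U g * x * toEnd U g⁻¹) * (toEnd U g * y * toEnd U g⁻¹) := by
        have h2 : toEnd U g⁻¹ * toEnd U g = 1 := by rw [← map_mul, inv_mul_cancel, map_one]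
        calc toEnd U g * (x * y) * toEnd U g⁻¹
            = toEnd U g * x * 1 * y * toEnd U g⁻¹ := by rw [mul_one]; simp only [mul_assoc]
          _ = toEnd U g * x * (toEnd U g⁻¹ * toEnd U g) * y * toEnd U g⁻¹ := by rw [h2]
          _ = _ := by simp only [mul_assoc]
      rw [h1]; exact Subring.mul_mem _ hx hy
  let Gz : Subgroup (MulAut U) := E ⊓ MulAction.stabilizer (MulAut U) z
  let _ : MulSemiringAction Gz (Subring.closure S) :=
    { smul := fun g r => ⟨toEnd U g * r * toEnd U (g : MulAut U)⁻¹, hconj g g.2.1 r r.2⟩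
      one_smul := fun r => Subtype.ext (by
        show toEnd U 1 * (r : AddMonoid.End (Additive U)) * toEnd U 1⁻¹ = r
        rw [inv_one, map_one, one_mul, mul_one])
      mul_smul := fun g h r => Subtype.ext (by
        show toEnd U ((g : MulAut U) * h) * (r : AddMonoid.End (Additive U)) *
          toEnd U ((g : MulAut U) * h)⁻¹ =
          toEnd U g * (toEnd U h * r * toEnd U (h : MulAut U)⁻¹) * toEnd U (g : MulAut U)⁻¹
        rw [mul_inv_rev, map_mul, map_mul]
        simp only [mul_assoc])
      smul_zero := fun g => Subtype.ext (by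
        show toEnd U g * (0 : AddMonoid.End (Additive U)) * toEnd U (g : MulAut U)⁻¹ = 0
        rw [mul_zero, zero_mul])
      smul_add := fun g r s => Subtype.ext (by
        show toEnd U g * ((r : AddMonoid.End (Additive U)) + s) * toEnd U (g : MulAut U)⁻¹ =
          toEnd U g * r * toEnd U (g : MulAut U)⁻¹ + toEnd U g * s * toEnd U (g : MulAut U)⁻¹
        rw [mul_add, add_mul])
      smul_one := fun g => Subtype.ext (by
        show toEnd U g * (1 : AddMonoid.End (Additive U)) * toEnd U (g : MulAut U)⁻¹ = 1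
        rw [mul_one, ← map_mul, mul_inv_cancel, map_one])
      smul_mul := fun g r s => Subtype.ext (by
        show toEnd U g * ((r : AddMonoid.End (Additive U)) * s) * toEnd U (g : MulAut U)⁻¹ =
          (toEnd U g * r * toEnd U (g : MulAut U)⁻¹) * (toEnd U g * s * toEnd U (g : MulAut U)⁻¹)
        have h2 : toEnd U (g : MulAut U)⁻¹ * toEnd U g = 1 := by
          rw [← map_mul, inv_mul_cancel, map_one]
        calc toEnd U g * ((r : AddMonoid.End (Additive U)) * s) * toEnd U (g : MulAut U)⁻¹
            = toEnd U g * r * 1 * s * toEnd U (g : MulAut U)⁻¹ := by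
              rw [mul_one]; simp only [mul_assoc]
          _ = toEnd U g * r * (toEnd U (g : MulAut U)⁻¹ * toEnd U g) * s *
              toEnd U (g : MulAut U)⁻¹ := by rw [h2]
          _ = _ := by simp only [mul_assoc]) }
  have hGfin : Finite (MulAut U) :=
    Finite.of_injective (fun f : MulAut U => (f : U → U)) DFunLike.coe_injective
  have hcardG : Nat.card {f : MulAut U // f ∈ E ∧ f z = z} = Nat.card Gz := rfl
  have hpU : p ∣ Nat.card U := by
    rw [← orderOf_eq_prime (hexp z) hz]; exact orderOf_dvd_natCard z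
  rw [hcardG]
  refine core (p := p) hp (V := Additive U) (F := Subring.closure S) (Subring.subtype _)
    Subtype.coe_injective (Additive.ofMul z) hz ?_ (G := Gz)
    (fun g x => Additive.ofMul ((g : MulAut U) x.toMul)) ?_ ?_ ?_ hpU ?_ ⟨e, heE, hez⟩ ?_
  · intro x hx y
    let W : Subgroup U :=
      { carrier := {w | ∃ r ∈ Subring.closure S, r x = Additive.ofMul w}
        one_mem' := ⟨0, Subring.zero_mem _, rfl⟩
        mul_mem' := by
          rintro a b ⟨r, hr, hra⟩ ⟨s, hs, hsb⟩
          refine ⟨r + s, Subring.add_mem _ hr hs, ?_⟩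
          show r x + s x = _
          rw [hra, hsb]; rfl
        inv_mem' := by
          rintro a ⟨r, hr, hra⟩
          refine ⟨-r, Subring.neg_mem _ hr, ?_⟩
          show -(r x) = _
          rw [hra]; rfl }
    have hW : ∀ a ∈ A, ∀ w ∈ W, a w ∈ W := by
      rintro a ha w ⟨r, hr, hrw⟩
      refine ⟨toEnd U a * r, Subring.mul_mem _ (Subring.subset_closure ⟨a, ha, rfl⟩) hr, ?_⟩
      show toEnd U a (r x) = _
      rw [hrw]; rfl
    rcases hirr W hW with h | h
    · exfalso
      have hxW : x.toMul ∈ W := ⟨1, Subring.one_mem _, rfl⟩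
      rw [h, Subgroup.mem_bot] at hxW
      exact hx hxW
    · have hyW : y.toMul ∈ W := by rw [h]; exact Subgroup.mem_top _
      obtain ⟨r, hr, hry⟩ := hyW
      exact ⟨⟨r, hr⟩, hry⟩
  · intro g hg
    apply Subtype.ext
    ext x
    exact hg (Additive.ofMul x)
  · intro g r x
    show Additive.ofMul ((g : MulAut U) ((r : AddMonoid.End (Additive U)) x).toMul) =
      (toEnd U g * (r : AddMonoid.End (Additive U)) * toEnd U (g : MulAut U)⁻¹)
        (Additive.ofMul ((g : MulAut U) x.toMul))
    show Additive.ofMul ((g : MulAut U) ((r : AddMonoid.End (Additive U)) x).toMul) =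
      Additive.ofMul ((g : MulAut U) ((r : AddMonoid.End (Additive U))
        (Additive.ofMul ((g : MulAut U)⁻¹ ((g : MulAut U) x.toMul)))).toMul)
    rw [MulAut.inv_apply_self]
    rfl
  · intro g
    exact g.2.2
  · intro h
    exact hpE (h.trans (Subgroup.card_dvd_of_le inf_le_left))
  · intro h
    exact he (congrArg Subtype.val h)

end Cfsg.Agent.H901.TIAL
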